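import Cfsg.Agent.H80.J1Unique.SylowTwo

/-!
# Involution centralizers in simple groups of order 175560
-/

namespace Cfsg.Agent.H80.J1Unique

open Subgroup Cfsg.Agent.H80.J1Order

universe u

variable {G : Type u} [Group G] [Finite G]

/-- Centralizers of involutions have order divisible by 120. -/
theorem dvd_card_centralizer [IsSimpleGroup G] (hna : ¬ IsMulCommutative G) (hd : SylowData G)
    (hc : Nat.card G = 175560) {t : G} (ht : orderOf t = 2) :
    120 ∣ Nat.card (centralizer ({t} : Set G)) := by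
  have := Fact.mk Nat.prime_two
  have := Fact.mk Nat.prime_five
  have card_eq : ∀ u : G, orderOf u = 2 →
      Nat.card (centralizer ({u} : Set G)) = Nat.card (centralizer ({t} : Set G)) := by
    intro u hu
    obtain ⟨g, hg⟩ := isConj_iff.mp (involutions_conj hna hd hc hu ht)
    refine Nat.card_congr ((MulAut.conj g).toEquiv.subtypeEquiv fun x => ?_)
    simp only [mem_centralizer_singleton_iff, MulEquiv.toEquiv_eq_coe, EquivLike.coe_coe,
      MulAut.conj_apply, ← hg]
    constructor
    · intro h
      calc g * x * g⁻¹ * (g * u * g⁻¹) = g * (x * u) * g⁻¹ := by group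
        _ = g * (u * x) * g⁻¹ := by rw [h]
        _ = g * u * g⁻¹ * (g * x * g⁻¹) := by group
    · intro h
      calc x * u = g⁻¹ * (g * x * g⁻¹ * (g * u * g⁻¹)) * g := by group
        _ = g⁻¹ * (g * u * g⁻¹ * (g * x * g⁻¹)) * g := by rw [h]
        _ = u * x := by group
  have h8 : 8 ∣ Nat.card (centralizer ({t} : Set G)) := by
    obtain ⟨S, hS⟩ := (IsPGroup.of_card (p := 2) (n := 1)
      (G := zpowers t) (by rw [Nat.card_zpowers, ht, pow_one])).exists_le_sylow
    have hab := sylow_two_comm hna hd hc S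
    rw [← card_sylow_two hc S]
    exact card_dvd_of_le fun x hx => mem_centralizer_singleton_iff.mpr
      (congrArg Subtype.val (hab.is_comm.comm (⟨x, hx⟩ : (S : Subgroup G)) ⟨t, hS (mem_zpowers t)⟩))
  have h3 : 3 ∣ Nat.card (centralizer ({t} : Set G)) := by
    obtain ⟨u, hu, h3⟩ := exists_involution_centralizing_three hd hc
    rwa [← card_eq u hu]
  have h5 : 5 ∣ Nat.card (centralizer ({t} : Set G)) := by
    have ho := once_of_mem hc (show 5 ∈ [19, 11, 7, 5, 3] by simp)
    let P : Sylow 5 G := default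
    have hP := ho.card_sylow P
    have hN : Nat.card (normalizer ((P : Subgroup G) : Set G)) = 60 := by
      rcases card_normalizer_cases hd hc (by simp) _ hP with ⟨h, -⟩ | ⟨-, e⟩ | ⟨h, -⟩ | ⟨h, -⟩ | ⟨h, -⟩
      all_goals first | exact e | omega
    obtain ⟨g, hgP⟩ := exists_prime_orderOf_dvd_card' (G := (P : Subgroup G)) 5 (by rw [hP])
    have hgen : zpowers g = ⊤ := eq_top_of_card_eq _ (by rw [Nat.card_zpowers, hgP, hP])
    obtain ⟨W, hW⟩ := Sylow.exists_subgroup_card_pow_prime 2
      (G := normalizer ((P : Subgroup G) : Set G)) (n := 2) (by rw [hN]; norm_num)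
    have hW2 : ∀ w ∈ W, w ^ 2 = 1 := fun w hw => Subtype.ext (sq_eq_one_of_two_pow hna hd hc
      (H := W.map (normalizer ((P : Subgroup G) : Set G)).subtype)
      ((IsPGroup.of_card hW).map _) ⟨w, hw, rfl⟩)
    have hact : ∀ w ∈ W, (w : G) * (g : G) * (w : G)⁻¹ = g ∨
        (w : G) * (g : G) * (w : G)⁻¹ = (g : G)⁻¹ := by
      intro w hw
      have hm : (w : G) * (g : G) * (w : G)⁻¹ ∈ (P : Subgroup G) :=
        (mem_normalizer_iff.mp w.2 _).mp g.2
      obtain ⟨k, hk⟩ := mem_zpowers_iff.mp (hgen ▸ mem_top (⟨_, hm⟩ : (P : Subgroup G)))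
      have hk' : (g : G) ^ k = (w : G) * (g : G) * (w : G)⁻¹ := congrArg Subtype.val hk
      have hww : (w : G) * w = 1 := by
        have := congrArg Subtype.val (hW2 w hw); simpa [pow_two] using this
      have h1 : (g : G) ^ (k * k) = g := by
        rw [zpow_mul, hk', conj_zpow, hk']
        calc (w : G) * ((w : G) * g * (w : G)⁻¹) * (w : G)⁻¹
            = ((w : G) * w) * g * ((w : G) * w)⁻¹ := by group
          _ = g := by rw [hww]; group
      have h2 : (5 : ℤ) ∣ k * k - 1 := by
        have : orderOf (g : G) = 5 := by rw [orderOf_coe]; exact hgP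
        rw [show (5 : ℤ) = ((5 : ℕ) : ℤ) from rfl, ← this, orderOf_dvd_iff_zpow_eq_one, zpow_sub,
          h1, zpow_one, mul_inv_cancel]
      have h2' : (5 : ℤ) ∣ (k - 1) * (k + 1) := by
        convert h2 using 1; ring
      have hord : ((orderOf (g : G)) : ℤ) = 5 := by rw [orderOf_coe, hgP]; rfl
      rcases Int.Prime.dvd_mul' (p := 5) Nat.prime_five h2' with h | h
      · left
        rw [← hk']
        have := orderOf_dvd_iff_zpow_eq_one.mp (show ((orderOf (g : G)) : ℤ) ∣ k - 1 from hord ▸ h)
        rw [zpow_sub, zpow_one, mul_inv_eq_one] at this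
        exact this
      · right
        rw [← hk']
        have := orderOf_dvd_iff_zpow_eq_one.mp (show ((orderOf (g : G)) : ℤ) ∣ k + 1 from hord ▸ h)
        rw [zpow_add_one, mul_eq_one_iff_eq_inv] at this
        exact this
    have hex : ∃ w ∈ W, w ≠ 1 ∧ (w : G) * (g : G) * (w : G)⁻¹ = g := by
      obtain ⟨a, ha⟩ : ∃ a : W, a ≠ 1 := by
        have : Nontrivial W := Finite.one_lt_card_iff_nontrivial.mp (by rw [hW]; norm_num)
        exact exists_ne 1
      obtain ⟨b, hb, hb'⟩ : ∃ b : W, b ≠ 1 ∧ b ≠ a := by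
        classical
        let _ : Fintype W := Fintype.ofFinite W
        obtain ⟨b, -, hb⟩ : ∃ b ∈ (Finset.univ : Finset W), b ∉ ({1, a} : Finset W) := by
          apply Finset.exists_mem_notMem_of_card_lt_card
          have h1 : Fintype.card W = 4 := by rw [← Nat.card_eq_fintype_card, hW]; norm_num
          calc ({1, a} : Finset W).card ≤ 2 := Finset.card_le_two
            _ < 4 := by norm_num
            _ = (Finset.univ : Finset W).card := by rw [Finset.card_univ, h1]
        exact ⟨b, by simp at hb; exact hb.1, by simp at hb; exact hb.2⟩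
      rcases hact a a.2 with h | h
      · exact ⟨a, a.2, by simpa using ha, h⟩
      rcases hact b b.2 with h' | h'
      · exact ⟨b, b.2, by simpa using hb, h'⟩
      refine ⟨(a * b : W), (a * b).2, fun hab => ?_, ?_⟩
      · have hab' : a * b = 1 := Subtype.ext hab
        have ha2 : a * a = 1 := Subtype.ext (by simpa [pow_two] using hW2 a a.2)
        exact hb' (mul_left_cancel (hab'.trans ha2.symm))
      · calc ((a * b : W) : G) * g * ((a * b : W) : G)⁻¹
            = ((a : _) : G) * (((b : _) : G) * g * ((b : _) : G)⁻¹) * ((a : _) : G)⁻¹ := by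
              simp [mul_assoc]
          _ = (((a : _) : G) * g * ((a : _) : G)⁻¹)⁻¹ := by rw [h']; group
          _ = g := by rw [h, inv_inv]
    obtain ⟨w, hw, hw1, hwg⟩ := hex
    have hwo : orderOf (w : G) = 2 := by
      rw [orderOf_coe]
      exact orderOf_eq_prime (hW2 w hw) hw1
    rw [← card_eq _ hwo]
    refine (dvd_of_eq (hgP.symm.trans (orderOf_coe g).symm)).trans ?_
    exact Subgroup.orderOf_dvd_natCard _ (mem_centralizer_singleton_iff.mpr
      (mul_inv_eq_iff_eq_mul.mp hwg).symm)
  have h15 : 15 ∣ Nat.card (centralizer ({t} : Set G)) :=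
    Nat.Coprime.mul_dvd_of_dvd_of_dvd (m := 3) (n := 5) (by norm_num) h3 h5
  exact Nat.Coprime.mul_dvd_of_dvd_of_dvd (m := 8) (n := 15) (by norm_num) h8 h15

/-- A complement of the involution in its centralizer. -/
theorem exists_complement [IsSimpleGroup G] (hna : ¬ IsMulCommutative G) (hd : SylowData G)
    (hc : Nat.card G = 175560) {t : G} (ht : orderOf t = 2) :
    ∃ K : Subgroup G, K ≤ centralizer ({t} : Set G) ∧ t ∉ K ∧
      2 * Nat.card K = Nat.card (centralizer ({t} : Set G)) ∧
      centralizer ({t} : Set G) ≤ normalizer (K : Set G) := by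
  classical
  have := Fact.mk Nat.prime_two
  let H := centralizer ({t} : Set G)
  obtain ⟨S₀, hS₀⟩ := (IsPGroup.of_card (p := 2) (n := 1)
    (G := zpowers t) (by rw [Nat.card_zpowers, ht, pow_one])).exists_le_sylow
  have hab := sylow_two_comm hna hd hc S₀
  have hSH : (S₀ : Subgroup G) ≤ H := fun x hx => mem_centralizer_singleton_iff.mpr
    (congrArg Subtype.val (hab.is_comm.comm (⟨x, hx⟩ : (S₀ : Subgroup G)) ⟨t, hS₀ (mem_zpowers t)⟩))
  have htH : t ∈ H := mem_centralizer_singleton_iff.mpr rfl
  let S : Sylow 2 H := S₀.subtype hSH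
  let e : (S : Subgroup H) ≃* (S₀ : Subgroup G) := subgroupOfEquivOfLe hSH
  have hSc : IsMulCommutative (S : Subgroup H) := ⟨⟨fun a b => e.injective (by
    rw [map_mul, map_mul]; exact hab.is_comm.comm _ _)⟩⟩
  have h8 : Nat.card (S : Subgroup H) = 8 := by
    rw [Nat.card_congr e.toEquiv, card_sylow_two hc]
  have hsq : ∀ a : (S : Subgroup H), a * a = 1 := fun a => e.injective (Subtype.ext (by
    have := sq_eq_one hna hd hc S₀ (e a).2
    simpa [pow_two] using this))
  let τ : (S : Subgroup H) := ⟨⟨t, htH⟩, hS₀ (mem_zpowers t)⟩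
  -- a subgroup of index two avoiding `t`
  obtain ⟨a, ha⟩ : ∃ a, a ∉ zpowers τ := by
    by_contra h
    push Not at h
    have h1 : zpowers τ = ⊤ := eq_top_iff.mpr fun x _ => h x
    have h2 : Nat.card (zpowers τ) ≤ 2 := by
      rw [Nat.card_zpowers]
      exact Nat.le_of_dvd (by norm_num) (orderOf_dvd_iff_pow_eq_one.mpr (by rw [pow_two, hsq]))
    rw [h1, card_top, h8] at h2
    omega
  have hzp : ∀ x y : (S : Subgroup H), y ∈ zpowers x ↔ y = 1 ∨ y = x := by
    intro x y
    constructor
    · intro hy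
      obtain ⟨k, rfl⟩ := mem_zpowers_iff.mp hy
      rcases Int.even_or_odd k with ⟨m, rfl⟩ | ⟨m, rfl⟩
      · left; rw [← two_mul, zpow_mul, zpow_ofNat, pow_two, hsq, one_zpow]
      · right; rw [zpow_add, zpow_mul, zpow_ofNat, pow_two, hsq, one_zpow, one_mul, zpow_one]
    · rintro (rfl | rfl)
      · exact one_mem _
      · exact mem_zpowers _
  open scoped IsMulCommutative in
  obtain ⟨U, hU2, hUτ⟩ : ∃ U : Subgroup (S : Subgroup H), U.index = 2 ∧ τ ∉ U := by
    have hτ1 : τ ≠ 1 := fun h => by
      have : t = 1 := congrArg (fun x : (S : Subgroup H) => ((x : H) : G)) h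
      rw [this, orderOf_one] at ht; omega
    have mem_pair : ∀ x y z : (S : Subgroup H), z ∈ zpowers x ⊔ zpowers y ↔
        z = 1 ∨ z = x ∨ z = y ∨ z = x * y := by
      intro x y z
      rw [Subgroup.mem_sup]
      constructor
      · rintro ⟨p, hp, q, hq, rfl⟩
        rcases (hzp x p).mp hp with rfl | rfl <;> rcases (hzp y q).mp hq with rfl | rfl <;> simp
      · rintro (rfl | rfl | rfl | rfl)
        · exact ⟨1, one_mem _, 1, one_mem _, mul_one 1⟩
        · exact ⟨_, mem_zpowers _, 1, one_mem _, mul_one _⟩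
        · exact ⟨1, one_mem _, _, mem_zpowers _, one_mul _⟩
        · exact ⟨_, mem_zpowers _, _, mem_zpowers _, rfl⟩
    have card_pair : ∀ x y : (S : Subgroup H), Nat.card (zpowers x ⊔ zpowers y : Subgroup _) ≤ 4 := by
      intro x y
      calc Nat.card (zpowers x ⊔ zpowers y : Subgroup _)
          ≤ Nat.card (({1, x, y, x * y} : Finset (S : Subgroup H))) :=
            Nat.card_le_card_of_injective (fun z => ⟨z.1, by
              simp only [Finset.mem_insert, Finset.mem_singleton]
              exact (mem_pair x y z.1).mp z.2⟩) (fun z z' h => Subtype.ext (congrArg Subtype.val h :))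
        _ ≤ 4 := by rw [Nat.card_eq_finsetCard]; exact Finset.card_le_four
    obtain ⟨b, hb⟩ : ∃ b, b ∉ zpowers τ ⊔ zpowers a := by
      by_contra h
      push Not at h
      have := card_pair τ a
      rw [show zpowers τ ⊔ zpowers a = ⊤ from eq_top_iff.mpr fun x _ => h x, card_top, h8] at this
      omega
    have hab0 : a ≠ 1 ∧ a ≠ τ := by
      rw [hzp] at ha; push Not at ha; exact ha
    rw [mem_pair] at hb
    push Not at hb
    obtain ⟨hb1, hbτ, hba, hbτa⟩ := hb
    refine ⟨zpowers a ⊔ zpowers b, ?_, ?_⟩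
    · have h1 := (zpowers a ⊔ zpowers b).card_mul_index
      rw [h8] at h1
      have h2 : 4 ≤ Nat.card (zpowers a ⊔ zpowers b : Subgroup _) := by
        have : ({1, a, b, a * b} : Finset (S : Subgroup H)).card = 4 := by
          have e1 : a * b ≠ 1 := fun h => hba (by
            rw [← hsq a] at h; exact (mul_left_cancel h))
          have e2 : a * b ≠ a := fun h => hb1 (mul_eq_left.mp h)
          have e3 : a * b ≠ b := fun h => hab0.1 (mul_eq_right.mp h)
          rw [Finset.card_insert_of_notMem (by simp [hab0.1.symm, hb1.symm, e1.symm]),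
            Finset.card_insert_of_notMem (by simp [hba.symm, e2.symm]),
            Finset.card_pair e3.symm]
        rw [← this, ← Nat.card_eq_finsetCard]
        exact Nat.card_le_card_of_injective (fun z => ⟨z.1, (mem_pair a b z.1).mpr (by
          have := z.2
          simp only [Finset.mem_insert, Finset.mem_singleton] at this
          exact this)⟩) (fun z z' h => Subtype.ext (congrArg Subtype.val h :))
      have h3 := card_pair a b
      have h4 : Nat.card (zpowers a ⊔ zpowers b : Subgroup _) = 4 := le_antisymm h3 h2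
      rw [h4] at h1; omega
    · rw [mem_pair]
      push Not
      refine ⟨hτ1, Ne.symm hab0.2, Ne.symm hbτ, fun h => hbτa ?_⟩
      calc b = a * (a * b) := by rw [← mul_assoc, hsq, one_mul]
        _ = τ * a := by rw [← h, mul_comm]
  have hUn : U.Normal := normal_of_index_eq_two hU2
  have := hSc
  open scoped IsMulCommutative in
  obtain ⟨f, hf⟩ : ∃ f : H →* (S : Subgroup H), f (τ : H) = τ ^ (S : Subgroup H).index := by
    refine ⟨MonoidHom.transfer (MonoidHom.id (S : Subgroup H)), ?_⟩
    have hcen : ∀ g : H, g * (τ : H) = (τ : H) * g := fun g => Subtype.ext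
      (mem_centralizer_singleton_iff.mp g.2)
    have key : ∀ (k : ℕ) (g₀ : H), g₀⁻¹ * (τ : H) ^ k * g₀ ∈ (S : Subgroup H) →
        g₀⁻¹ * (τ : H) ^ k * g₀ = (τ : H) ^ k := by
      intro k g₀ _
      have hcm : Commute g₀ ((τ : H) ^ k) := Commute.pow_right (hcen g₀) k
      rw [mul_assoc, ← hcm.eq, inv_mul_cancel_left]
    rw [MonoidHom.transfer_eq_pow _ _ key]
    rfl
  let χ : H →* (S : Subgroup H) ⧸ U := (QuotientGroup.mk' U).comp f
  have hodd : Odd (S : Subgroup H).index :=
    Nat.not_even_iff_odd.mp fun h => S.not_dvd_index (even_iff_two_dvd.mp h)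
  have hτ' : χ (τ : H) ≠ 1 := by
    obtain ⟨m, hm⟩ := hodd
    show QuotientGroup.mk' U (f τ) ≠ 1
    rw [hf, hm, pow_succ, pow_mul, pow_two, hsq, one_pow, one_mul, QuotientGroup.mk'_apply,
      Ne, QuotientGroup.eq_one_iff]
    exact hUτ
  have hker : χ.ker.index = 2 := by
    have h1 : χ.ker.index = Nat.card χ.range := Subgroup.index_ker χ
    have h2 : Nat.card χ.range ∣ 2 := by
      refine (card_subgroup_dvd_card _).trans (dvd_of_eq ?_)
      rw [← index_eq_card, hU2]
    rcases (Nat.dvd_prime Nat.prime_two).mp h2 with h | h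
    · exfalso
      apply hτ'
      have := (Subgroup.card_eq_one.mp h)
      exact (MonoidHom.range_eq_bot_iff.mp this) ▸ rfl
    · rw [h1, h]
  have := normal_of_index_eq_two hker
  refine ⟨χ.ker.map H.subtype, map_subtype_le _, ?_, ?_, ?_⟩
  · rintro ⟨x, hx, hxt⟩
    exact hτ' (by
      have : x = (τ : H) := Subtype.ext hxt
      rw [← this]; exact hx)
  · rw [← Nat.card_congr (χ.ker.equivMapOfInjective _ H.subtype_injective).toEquiv]
    have h9 := χ.ker.card_mul_index
    rw [hker] at h9
    exact (mul_comm _ _).trans h9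
  · intro g hg
    exact le_normalizer_map _ ⟨⟨g, hg⟩, by rw [normalizer_eq_top_iff.mpr this]; exact mem_top _, rfl⟩

end Cfsg.Agent.H80.J1Unique
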