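import Cfsg.Agent.H80.J1Unique.Centralizer
import Cfsg.Agent.H6.SmallOrder

/-!
# The complement of an involution in its centralizer has order sixty
-/

namespace Cfsg.Agent.H80.J1Unique

open Subgroup Cfsg.Agent.H80.J1Order

universe u

variable {G : Type u} [Group G] [Finite G]

/-- The standing facts about the complement `K` of an involution `t`. -/
structure Compl (t : G) (K : Subgroup G) : Prop where
  ht : orderOf t = 2
  le : K ≤ centralizer ({t} : Set G)
  notMem : t ∉ K
  card : 2 * Nat.card K = Nat.card (centralizer ({t} : Set G))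
  normalized : centralizer ({t} : Set G) ≤ normalizer (K : Set G)
  dvd : 120 ∣ Nat.card (centralizer ({t} : Set G))

variable {t : G} {K : Subgroup G}

/-- `t` and `K` generate the centralizer. -/
theorem Compl.exists_mul (h : Compl t K) {g : G} (hg : g ∈ centralizer ({t} : Set G)) :
    g ∈ K ∨ t * g ∈ K := by
  have htH : t ∈ centralizer ({t} : Set G) := mem_centralizer_singleton_iff.mpr rfl
  have hidx : (K.subgroupOf (centralizer ({t} : Set G))).index = 2 := by
    have h1 := (K.subgroupOf (centralizer ({t} : Set G))).card_mul_index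
    rw [Nat.card_congr (subgroupOfEquivOfLe h.le).toEquiv, ← h.card] at h1
    exact Nat.eq_of_mul_eq_mul_left Nat.card_pos (h1.trans (mul_comm _ _))
  by_cases hgK : g ∈ K
  · exact Or.inl hgK
  · right
    have h2 : (⟨t, htH⟩ * ⟨g, hg⟩ : centralizer ({t} : Set G)) ∈
        K.subgroupOf (centralizer ({t} : Set G)) :=
      (mul_mem_iff_of_index_two hidx).mpr (iff_of_false h.notMem hgK)
    exact h2

/-- A subgroup normalized by `K` inside `K` is normalized by the whole centralizer. -/
theorem Compl.normalizer_le (h : Compl t K) {N : Subgroup G} (hNK : N ≤ K)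
    (hn : K ≤ normalizer (N : Set G)) : centralizer ({t} : Set G) ≤ normalizer (N : Set G) := by
  intro g hg
  have htN : t ∈ normalizer (N : Set G) := centralizer_le_normalizer _ (mem_centralizer_iff.mpr fun x hx =>
    mem_centralizer_singleton_iff.mp (h.le (hNK hx)))
  rcases h.exists_mul hg with hk | hk
  · exact hn hk
  · have := mul_mem (inv_mem htN) (hn hk)
    rwa [inv_mul_cancel_left] at this

theorem Compl.odd_normal_eq_bot (h : Compl t K) (hd : SylowData G) (hc : Nat.card G = 175560)
    (N : Subgroup K) (hN : N.Normal) (hodd : Odd (Nat.card N)) : N = ⊥ := by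
  have h1 := eq_bot_of_odd_normalized hd hc (centralizer ({t} : Set G)) (N.map K.subtype)
    ((map_subtype_le N).trans h.le) (h.normalizer_le (map_subtype_le N) fun k hk =>
      le_normalizer_map _ ⟨⟨k, hk⟩, by rw [normalizer_eq_top_iff.mpr hN]; exact mem_top _, rfl⟩)
    ((show 8 ∣ 120 by norm_num).trans h.dvd)
    (by rwa [← Nat.card_congr (N.equivMapOfInjective _ K.subtype_injective).toEquiv])
  exact (map_eq_bot_iff_of_injective _ K.subtype_injective).mp h1

theorem Compl.card_sylow_ne_one (h : Compl t K) (hd : SylowData G) (hc : Nat.card G = 175560)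
    {r : ℕ} [Fact r.Prime] (hr2 : r ≠ 2) (hdvd : r ∣ Nat.card K) : Nat.card (Sylow r K) ≠ 1 := by
  intro h1
  have : Subsingleton (Sylow r K) := (Nat.card_eq_one_iff_unique.mp h1).1
  let P : Sylow r K := default
  have hb := h.odd_normal_eq_bot hd hc P (Sylow.normal_of_subsingleton P) (by
    obtain ⟨a, ha⟩ := IsPGroup.iff_card.mp P.2
    rw [ha]; exact ((Fact.out : r.Prime).odd_of_ne_two hr2).pow)
  have := P.dvd_card_of_dvd_card hdvd
  rw [hb, card_bot, Nat.dvd_one] at this
  exact (Fact.out : r.Prime).ne_one this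

/-- Local orders inside `K` double inside `G`. -/
theorem Compl.two_mul_card_dvd (h : Compl t K) (Q : Subgroup K) :
    2 * Nat.card (normalizer (Q : Set K)) ∣
      Nat.card (normalizer ((Q.map K.subtype : Subgroup G) : Set G)) ∧
    2 * Nat.card (centralizer (Q : Set K)) ∣
      Nat.card (centralizer ((Q.map K.subtype : Subgroup G) : Set G)) := by
  have key : ∀ (A : Subgroup K) (B : Subgroup G), A.map K.subtype ≤ B → t ∈ B →
      2 * Nat.card A ∣ Nat.card B := by
    intro A B hAB htB
    have hco : ∀ a ∈ A.map K.subtype, Commute t a := fun a ha =>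
      (mem_centralizer_singleton_iff.mp (h.le (map_subtype_le A ha))).symm
    let f : zpowers t × (A.map K.subtype : Subgroup G) →* B :=
      { toFun := fun x => ⟨x.1 * x.2, mul_mem ((zpowers_le.mpr htB) x.1.2) (hAB x.2.2)⟩
        map_one' := by ext; simp
        map_mul' := fun x y => by
          ext
          obtain ⟨i, hi⟩ := mem_zpowers_iff.mp y.1.2
          have hc : Commute (x.2 : G) (y.1 : G) := hi ▸ ((hco _ x.2.2).symm.zpow_right i)
          simp only [Prod.fst_mul, Prod.snd_mul, coe_mul, MulMemClass.mk_mul_mk]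
          rw [mul_assoc, mul_assoc, ← mul_assoc (y.1 : G), ← hc.eq, mul_assoc] }
    have hf : Function.Injective f := by
      rw [injective_iff_map_eq_one]
      rintro ⟨⟨x, hx⟩, ⟨a, ha⟩⟩ hxa
      have hxa' : x * a = 1 := congrArg Subtype.val hxa
      obtain ⟨i, rfl⟩ := mem_zpowers_iff.mp hx
      have ht2 : t ^ 2 = 1 := h.ht ▸ pow_orderOf_eq_one t
      rcases Int.even_or_odd i with ⟨m, rfl⟩ | ⟨m, rfl⟩
      · have h0 : t ^ (m + m) = 1 := by rw [← two_mul, zpow_mul, zpow_ofNat, ht2, one_zpow]
        rw [h0, one_mul] at hxa'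
        exact Prod.ext (Subtype.ext h0) (Subtype.ext hxa')
      · exfalso
        rw [zpow_add, zpow_mul, zpow_ofNat, ht2, one_zpow, one_mul, zpow_one,
          mul_eq_one_iff_eq_inv] at hxa'
        exact h.notMem (hxa' ▸ inv_mem (map_subtype_le A ha))
    have h2 := Subgroup.card_dvd_of_injective f hf
    rwa [Nat.card_prod, Nat.card_zpowers, h.ht,
      ← Nat.card_congr (A.equivMapOfInjective _ K.subtype_injective).toEquiv] at h2
  have htc : t ∈ centralizer ((Q.map K.subtype : Subgroup G) : Set G) :=
    mem_centralizer_iff.mpr fun x hx => mem_centralizer_singleton_iff.mp (h.le (map_subtype_le Q hx))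
  refine ⟨key _ _ (le_normalizer_map _) (centralizer_le_normalizer _ htc), key _ _ ?_ htc⟩
  rintro _ ⟨x, hx, rfl⟩
  rw [mem_centralizer_iff]
  rintro _ ⟨q, hq, rfl⟩
  exact congrArg K.subtype (mem_centralizer_iff.mp hx q hq)

theorem card_sylow_eq_prime (hc : Nat.card G = 175560) {r : ℕ} [Fact r.Prime]
    (hr : r ∈ [19, 11, 7, 5, 3]) (hdvd : r ∣ Nat.card K) (P : Sylow r K) :
    Nat.card (P : Subgroup K) = r :=
  Once.card_sylow ⟨Fact.out, hdvd, fun h =>
    (once_of_mem hc hr).not_sq (h.trans (card_subgroup_dvd_card K))⟩ P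

/-- The complement has order sixty. -/
theorem Compl.card_eq [IsSimpleGroup G] (hna : ¬ IsMulCommutative G) (h : Compl t K)
    (hd : SylowData G) (hc : Nat.card G = 175560) : Nat.card K = 60 := by
  have := Fact.mk Nat.prime_two
  have : Fact (Nat.Prime 3) := ⟨Nat.prime_three⟩
  have : Fact (Nat.Prime 5) := ⟨Nat.prime_five⟩
  have : Fact (Nat.Prime 7) := ⟨by norm_num⟩
  have : Fact (Nat.Prime 11) := ⟨by norm_num⟩
  have : Fact (Nat.Prime 19) := ⟨by norm_num⟩
  obtain ⟨m, hm⟩ : 60 ∣ Nat.card K := by
    have := h.dvd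
    rw [← h.card] at this
    exact Nat.dvd_of_mul_dvd_mul_left (k := 2) (by norm_num) (by simpa using this)
  have hm' : m ∣ 1463 := by
    have h1 := card_subgroup_dvd_card (centralizer ({t} : Set G))
    rw [hc, ← h.card, hm] at h1
    exact Nat.dvd_of_mul_dvd_mul_left (k := 120) (by norm_num)
      (by rw [show 120 * 1463 = 175560 by norm_num, show 120 * m = 2 * (60 * m) by ring]; exact h1)
  have hproper : m ≠ 1463 := by
    intro e
    have htop : centralizer ({t} : Set G) = ⊤ := eq_top_of_card_eq _ (by rw [← h.card, hm, e, hc])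
    have htc : t ∈ center G := mem_center_iff.mpr fun g =>
      mem_centralizer_singleton_iff.mp (by rw [htop]; exact mem_top g)
    have hZ : center G = ⊥ := ((inferInstance : (center G).Normal).eq_bot_or_eq_top).resolve_right
      fun e' => hna ⟨⟨fun a b => (mem_center_iff.mp (by rw [e']; exact mem_top b) a)⟩⟩
    rw [hZ, mem_bot] at htc
    have := h.ht
    rw [htc, orderOf_one] at this
    omega
  have h19 : ¬ 19 ∣ m := by
    rintro ⟨j, rfl⟩
    have hj : j ∣ 77 := Nat.dvd_of_mul_dvd_mul_left (k := 19) (by norm_num) hm'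
    refine h.card_sylow_ne_one hd hc (r := 19) (by norm_num) (by rw [hm]; exact dvd_mul_of_dvd_right (dvd_mul_right _ _) _) ?_
    refine J1Order.card_sylow_eq_one (60 * j) K (by rw [hm]; ring) ?_ ?_
    · exact (Nat.mul_dvd_mul_left 60 hj).trans (by norm_num)
    · intro e
      have : 77 < j := by omega
      exact absurd (Nat.le_of_dvd (by norm_num) hj) (by omega)
  have hK : ∀ {r : ℕ} [Fact r.Prime] (P : Sylow r K),
      Nat.card (Sylow r K) * Nat.card (normalizer ((P : Subgroup K) : Set K)) = 60 * m :=
    fun {r} _ P => (H30.card_sylow_mul_normalizer r P).trans hm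
  have hQ : ∀ {r : ℕ} [Fact r.Prime], r ∈ [19, 11, 7, 5, 3] → r ∣ Nat.card K → ∀ P : Sylow r K,
      r ∣ Nat.card (normalizer ((P : Subgroup K) : Set K)) ∧
      Nat.card ((P : Subgroup K).map K.subtype) = r := by
    intro r _ hr hdvd P
    refine ⟨(dvd_of_eq (card_sylow_eq_prime hc hr hdvd P).symm).trans (card_dvd_of_le le_normalizer), ?_⟩
    rw [← Nat.card_congr ((P : Subgroup K).equivMapOfInjective _ K.subtype_injective).toEquiv,
      card_sylow_eq_prime hc hr hdvd P]
  have hmod : ∀ {r : ℕ} [Fact r.Prime], Nat.card (Sylow r K) % r = 1 := by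
    intro r _
    have := card_sylow_modEq_one r K
    rwa [Nat.ModEq, Nat.one_mod_eq_one.mpr (Fact.out : r.Prime).ne_one] at this
  have h7 : ¬ 7 ∣ m := by
    intro h7m
    have hdvd : 7 ∣ Nat.card K := hm ▸ dvd_mul_of_dvd_right h7m 60
    let P : Sylow 7 K := default
    obtain ⟨h1, h2⟩ := hQ (by simp) hdvd P
    have h3 := (h.two_mul_card_dvd (P : Subgroup K)).1
    rcases card_normalizer_cases hd hc (by simp) _ h2 with ⟨e, -⟩ | ⟨e, -⟩ | ⟨-, e⟩ | ⟨e, -⟩ | ⟨e, -⟩
    any_goals omega
    rw [e] at h3
    have h4 : Nat.card (normalizer ((P : Subgroup K) : Set K)) ∣ 21 :=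
      Nat.dvd_of_mul_dvd_mul_left (k := 2) (by norm_num) (by simpa using h3)
    have h5 := Nat.le_of_dvd (by norm_num) h4
    have h6 := hK P
    have h7 := hmod (r := 7)
    have hm77 : m = 7 ∨ m = 77 := by
      have hd77 : m ∣ 77 := by
        have : Nat.Coprime m 19 := (Nat.Prime.coprime_iff_not_dvd (by norm_num)).mpr h19 |>.symm
        exact this.dvd_of_dvd_mul_right (show m ∣ 77 * 19 by simpa using hm')
      have := Nat.le_of_dvd (by norm_num) hd77
      interval_cases m <;> omega
    rcases hm77 with rfl | rfl <;>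
      interval_cases hx : Nat.card (normalizer ((P : Subgroup K) : Set K)) <;> omega
  have hm11 : m = 1 ∨ m = 11 := by
    have hd77 : m ∣ 77 := by
      have : Nat.Coprime m 19 := (Nat.Prime.coprime_iff_not_dvd (by norm_num)).mpr h19 |>.symm
      exact this.dvd_of_dvd_mul_right (show m ∣ 77 * 19 by simpa using hm')
    have hd11 : m ∣ 11 := by
      have : Nat.Coprime m 7 := (Nat.Prime.coprime_iff_not_dvd (by norm_num)).mpr h7 |>.symm
      exact this.dvd_of_dvd_mul_right (show m ∣ 11 * 7 by simpa using hd77)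
    exact (Nat.dvd_prime (by norm_num)).mp hd11
  rcases hm11 with rfl | rfl
  · simpa using hm
  exfalso
  -- the order 660
  have hd3 : 3 ∣ Nat.card K := by rw [hm]; norm_num
  have hd5 : 5 ∣ Nat.card K := by rw [hm]; norm_num
  let P : Sylow 3 K := default
  obtain ⟨h1, h2⟩ := hQ (by simp) hd3 P
  have hN30 : Nat.card (normalizer ((P : Subgroup K) : Set K)) ∣ 30 := by
    have h3 := (h.two_mul_card_dvd (P : Subgroup K)).1
    rcases card_normalizer_cases hd hc (by simp) _ h2 with ⟨-, e⟩ | ⟨e, -⟩ | ⟨e, -⟩ | ⟨e, -⟩ | ⟨e, -⟩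
    any_goals omega
    rw [e] at h3
    exact Nat.dvd_of_mul_dvd_mul_left (k := 2) (by norm_num) (by simpa using h3)
  have hC15 : Nat.card (centralizer ((P : Subgroup K) : Set K)) ∣ 15 := by
    have h3 := (h.two_mul_card_dvd (P : Subgroup K)).2
    obtain ⟨P', hP'⟩ := exists_sylow_eq (once_of_mem hc (by simp)) _ h2
    rw [← hP', (once_of_mem hc (by simp)).card_centralizer P', hd.c3] at h3
    exact Nat.dvd_of_mul_dvd_mul_left (k := 2) (by norm_num) (by simpa using h3)
  have hcases : Nat.card (normalizer ((P : Subgroup K) : Set K)) = 3 ∨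
      Nat.card (normalizer ((P : Subgroup K) : Set K)) = 30 := by
    have h6 := hK P
    have h7 := hmod (r := 3)
    have h5 := Nat.le_of_dvd (by norm_num) hN30
    interval_cases hx : Nat.card (normalizer ((P : Subgroup K) : Set K)) <;> omega
  rcases hcases with hN | hN
  · -- a normal 3-complement
    have hle : normalizer ((P : Subgroup K) : Set K) ≤ centralizer ((P : Subgroup K) : Set K) := by
      have hPc := card_sylow_eq_prime hc (by simp) hd3 P
      have heq : (P : Subgroup K) = normalizer ((P : Subgroup K) : Set K) :=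
        eq_of_le_of_card_ge le_normalizer (by rw [hN, hPc])
      have := isCyclic_of_prime_card hPc
      have : IsMulCommutative (P : Subgroup K) := IsCyclic.isMulCommutative
      exact heq.symm.le.trans (le_centralizer _)
    have hcompl := MonoidHom.ker_transferSylow_isComplement' P hle
    set W := (MonoidHom.transferSylow P hle).ker with hW
    have hWc : Nat.card W * 3 = 660 := by
      have := hcompl.card_mul
      rwa [card_sylow_eq_prime hc (by simp) hd3 P, hm] at this
    have hWi : ¬ 11 ∣ W.index := by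
      have := W.card_mul_index
      rw [hm] at this
      have : W.index = 3 := by
        have h0 : Nat.card W = 220 := by omega
        rw [h0] at this; omega
      omega
    refine h.card_sylow_ne_one hd hc (r := 11) (by norm_num) (by rw [hm]; norm_num) ?_
    rw [← H90.card_sylow_normal_subgroup W hWi]
    have h0 : Nat.card W = 220 := by omega
    let R : Sylow 11 W := default
    have h8 : Nat.card (Sylow 11 W) * Nat.card (normalizer ((R : Subgroup W) : Set W)) = 220 :=
      (H30.card_sylow_mul_normalizer 11 R).trans h0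
    have h9 : 11 ∣ Nat.card (normalizer ((R : Subgroup W) : Set W)) :=
      (R.dvd_card_of_dvd_card (by rw [h0]; norm_num)).trans (card_dvd_of_le le_normalizer)
    have h10 : Nat.card (Sylow 11 W) % 11 = 1 := by
      have := card_sylow_modEq_one 11 W
      rwa [Nat.ModEq] at this
    obtain ⟨j, hj⟩ := h9
    rw [hj] at h8
    have h11 : Nat.card (Sylow 11 W) * j = 20 := by
      apply Nat.eq_of_mul_eq_mul_left (show 0 < 11 by norm_num)
      rw [show 11 * 20 = 220 by norm_num, ← h8]; ring
    have h12 : Nat.card (Sylow 11 W) ≤ 20 := Nat.le_of_dvd (by norm_num) (Dvd.intro j h11)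
    interval_cases hx : Nat.card (Sylow 11 W) <;> omega
  · -- an element of order five centralizing `P`
    let N := normalizer ((P : Subgroup K) : Set K)
    let C := centralizer ((P : Subgroup K) : Set K)
    obtain ⟨g, hg⟩ := exists_prime_orderOf_dvd_card' (G := N) 5 (by rw [hN]; norm_num)
    have hCN : C ≤ N := centralizer_le_normalizer _
    have hgC : (g : K) ∈ C := by
      let φ := normalizerMonoidHom (P : Subgroup K)
      have h1 : φ g = 1 := by
        rw [← orderOf_eq_one_iff]
        have hd1 : orderOf (φ g) ∣ 5 := hg ▸ orderOf_map_dvd φ g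
        have hd2 : orderOf (φ g) ∣ 2 := by
          have := isCyclic_of_prime_card (card_sylow_eq_prime hc (by simp) hd3 P)
          refine (_root_.orderOf_dvd_natCard (φ g)).trans (dvd_of_eq ?_)
          rw [IsCyclic.card_mulAut, card_sylow_eq_prime hc (by simp) hd3 P]; rfl
        exact Nat.eq_one_of_dvd_coprimes (by norm_num : Nat.Coprime 5 2) hd1 hd2
      have h2 : g ∈ φ.ker := h1
      rwa [normalizerMonoidHom_ker] at h2
    have hZ : Nat.card (zpowers (g : K)) = 5 := by rw [Nat.card_zpowers, orderOf_coe, hg]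
    obtain ⟨R, hR⟩ := exists_sylow_eq (G := K) (r := 5)
      ⟨Fact.out, hd5, fun hh => by rw [hm] at hh; norm_num at hh⟩ _ hZ
    obtain ⟨h1', h2'⟩ := hQ (by simp) hd5 R
    have hR30 : Nat.card (normalizer ((R : Subgroup K) : Set K)) ∣ 30 := by
      have h3 := (h.two_mul_card_dvd (R : Subgroup K)).1
      rcases card_normalizer_cases hd hc (by simp) _ h2' with ⟨e, -⟩ | ⟨-, e⟩ | ⟨e, -⟩ | ⟨e, -⟩ | ⟨e, -⟩
      any_goals omega
      rw [e] at h3
      exact Nat.dvd_of_mul_dvd_mul_left (k := 2) (by norm_num) (by simpa using h3)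
    have h3R : 3 ∣ Nat.card (normalizer ((R : Subgroup K) : Set K)) := by
      rw [← card_sylow_eq_prime hc (by simp) hd3 P]
      refine card_dvd_of_le fun x hx => centralizer_le_normalizer _ ?_
      rw [hR, mem_centralizer_iff]
      intro y hy
      obtain ⟨i, rfl⟩ := mem_zpowers_iff.mp hy
      exact ((Commute.zpow_right (mem_centralizer_iff.mp hgC x hx : Commute x (g : K)) i).symm).eq
    have h6 := hK R
    have h7 := hmod (r := 5)
    have h5 := Nat.le_of_dvd (by norm_num) hR30
    interval_cases hx : Nat.card (normalizer ((R : Subgroup K) : Set K)) <;> omega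

/-- The complement is simple. -/
theorem Compl.isSimpleGroup (h : Compl t K) (hd : SylowData G) (hc : Nat.card G = 175560)
    (h60 : Nat.card K = 60) : IsSimpleGroup K := by
  classical
  have := Fact.mk Nat.prime_two
  have : Fact (Nat.Prime 5) := ⟨Nat.prime_five⟩
  have : Nontrivial K := Finite.one_lt_card_iff_nontrivial.mp (by omega)
  by_contra hns
  obtain ⟨N, hN, hN0, hN1⟩ : ∃ N : Subgroup K, N.Normal ∧ N ≠ ⊥ ∧ N ≠ ⊤ := by
    by_contra h'
    push Not at h'
    exact hns { eq_bot_or_eq_top_of_normal := fun N hN => or_iff_not_imp_left.mpr (h' N hN) }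
  have hmul := N.card_mul_index
  rw [h60] at hmul
  have hN2 : 2 ≤ Nat.card N := (Subgroup.one_lt_card_iff_ne_bot N).mpr hN0
  have hi2 : 2 ≤ N.index := by
    have := index_ne_zero_of_finite (H := N)
    have : N.index ≠ 1 := fun e => hN1 (index_eq_one.mp e)
    omega
  have hs1 : Group.IsSolvable N := H6.isSolvable_of_card_lt_sixty (by nlinarith)
  have hs2 : Group.IsSolvable (K ⧸ N) :=
    H6.isSolvable_of_card_lt_sixty (by rw [← index_eq_card]; nlinarith)
  have hs : Group.IsSolvable K := solvable_of_ker_le_range N.subtype (QuotientGroup.mk' N) (by simp)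
  obtain ⟨A, hA, hA0, hAc⟩ : ∃ A : Subgroup K, A.Normal ∧ A ≠ ⊥ ∧ IsMulCommutative A := by
    obtain ⟨n, hn⟩ := hs.solvable
    have hex : ∃ k, derivedSeries K k = ⊥ := ⟨n, hn⟩
    have h0 : Nat.find hex ≠ 0 := fun e => by
      have := Nat.find_spec hex
      rw [e, derivedSeries_zero] at this
      exact absurd this top_ne_bot
    refine ⟨derivedSeries K (Nat.find hex - 1), derivedSeries_normal K _, Nat.find_min hex (by omega), ?_⟩
    have h1 := Nat.find_spec hex
    rw [show Nat.find hex = (Nat.find hex - 1) + 1 by omega, derivedSeries_succ,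
      commutator_eq_bot_iff_le_centralizer] at h1
    exact ⟨⟨fun x y => Subtype.ext ((mem_centralizer_iff.mp (h1 x.2) y y.2).symm)⟩⟩
  have hA2 : IsPGroup 2 A := by
    rw [IsPGroup.iff_card]
    refine ⟨(Nat.card A).factorization 2, ?_⟩
    by_contra hne
    obtain ⟨r, hr, hr2, hrA⟩ : ∃ r, r.Prime ∧ r ≠ 2 ∧ r ∣ Nat.card A := by
      by_contra h'
      push Not at h'
      apply hne
      have e := Nat.eq_prime_pow_of_unique_prime_dvd (Nat.card_pos (α := A)).ne' fun {r} hr hd' =>
        by_contra fun h2 => h' r hr h2 hd'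
      have e2 : (Nat.card A).factorization 2 = (Nat.card A).primeFactorsList.length := by
        conv_lhs => rw [e]
        rw [Nat.prime_two.factorization_pow]
        simp
      rwa [← e2] at e
    have := Fact.mk hr
    let R : Sylow r A := default
    have hRn : (R : Subgroup A).Normal := by
      have := hAc
      exact ⟨fun x hx g => by rwa [hAc.is_comm.comm g x, mul_inv_cancel_right]⟩
    have hRc : (R : Subgroup A).Characteristic := R.characteristic_of_normal hRn
    have hRK : ((R : Subgroup A).map A.subtype).Normal := ConjAct.normal_of_characteristic_of_normal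
    have hodd : Odd (Nat.card ((R : Subgroup A).map A.subtype)) := by
      rw [← Nat.card_congr ((R : Subgroup A).equivMapOfInjective _ A.subtype_injective).toEquiv]
      obtain ⟨a, ha⟩ := IsPGroup.iff_card.mp R.2
      rw [ha]; exact (hr.odd_of_ne_two hr2).pow
    have hb := (map_eq_bot_iff_of_injective _ A.subtype_injective).mp
      (h.odd_normal_eq_bot hd hc _ hRK hodd)
    have := R.dvd_card_of_dvd_card hrA
    rw [hb, card_bot, Nat.dvd_one] at this
    exact hr.ne_one this
  obtain ⟨a, ha⟩ := IsPGroup.iff_card.mp hA2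
  have ha2 : a ≤ 2 := by
    have h1 := card_subgroup_dvd_card A
    rw [ha, h60] at h1
    by_contra h'
    have : 2 ^ 3 ∣ 60 := (pow_dvd_pow 2 (by omega)).trans h1
    norm_num at this
  -- an element of order five centralizes `A`
  obtain ⟨g, hg⟩ := exists_prime_orderOf_dvd_card' (G := K) 5 (by rw [h60]; norm_num)
  have hgA : ∀ x ∈ A, g * x * g⁻¹ = x := by
    intro x hx
    let _ : MulAction (zpowers g) A :=
      MulAction.compHom A ((MulAut.conjNormal (H := A)).comp (zpowers g).subtype)
    have h5 : IsPGroup 5 (zpowers g) :=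
      IsPGroup.of_card (n := 1) (by rw [Nat.card_zpowers, hg, pow_one])
    obtain ⟨k, hk⟩ := h5.card_orbit (⟨x, hx⟩ : A)
    have hlt : Nat.card (MulAction.orbit (zpowers g) (⟨x, hx⟩ : A)) < 5 :=
      calc _ ≤ Nat.card A := Nat.card_le_card_of_injective _ Subtype.val_injective
        _ < 5 := by rw [ha]; interval_cases a <;> norm_num
    have hk0 : k = 0 := by
      by_contra h'
      have : 5 ≤ 5 ^ k := Nat.le_self_pow h' 5
      omega
    rw [hk0, pow_zero] at hk
    have hsub := (Nat.card_eq_one_iff_unique.mp hk).1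
    have h1 := congrArg (fun z : MulAction.orbit (zpowers g) (⟨x, hx⟩ : A) => (((z : A) : K)))
      (hsub.elim ⟨_, MulAction.mem_orbit (⟨x, hx⟩ : A) (⟨g, mem_zpowers g⟩ : zpowers g)⟩
        ⟨_, MulAction.mem_orbit_self _⟩)
    simpa [MulAut.conjNormal_apply, MulAction.compHom_smul_def] using h1
  have hdvd : Nat.card A ∣ Nat.card (centralizer ((zpowers g : Subgroup K) : Set K)) := by
    refine card_dvd_of_le fun x hx => mem_centralizer_iff.mpr fun y hy => ?_
    obtain ⟨i, rfl⟩ := mem_zpowers_iff.mp hy
    exact (Commute.zpow_left (mul_inv_eq_iff_eq_mul.mp (hgA x hx) : Commute g x) i).eq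
  have h3 := (h.two_mul_card_dvd (zpowers g)).2
  have ho5 := once_of_mem hc (show 5 ∈ [19, 11, 7, 5, 3] by simp)
  obtain ⟨P, hP⟩ := exists_sylow_eq ho5 ((zpowers g).map K.subtype) (by
    rw [← Nat.card_congr ((zpowers g).equivMapOfInjective _ K.subtype_injective).toEquiv,
      Nat.card_zpowers, hg])
  rw [← hP, ho5.card_centralizer P] at h3
  have h4 : 2 * Nat.card A ∣ 5 * cen G 5 := (Nat.mul_dvd_mul_left 2 hdvd).trans h3
  have ha1 : 1 ≤ a := by
    by_contra h'
    exact hA0 (Subgroup.card_eq_one.mp (by rw [ha, show a = 0 by omega, pow_zero]))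
  rw [ha] at h4
  rcases hd.c5 with e | e <;> rw [e] at h4 <;> interval_cases a <;> norm_num at h4

end Cfsg.Agent.H80.J1Unique
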