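import Cfsg.Prelude.Def_SporadicB
import Cfsg.Agent.H80.J1Unique.Order
import Cfsg.Agent.S0494

/-!
# A simple group of order 175560 has an involution centralizer `2 × A₅`
-/

namespace Cfsg.Agent.H80.J1Unique

open Subgroup Cfsg.Agent.H80.J1Order

universe u

variable {G : Type u} [Group G] [Finite G]

/-- The involution centralizer of a simple group of order 175560. -/
theorem exists_centralizer_equiv [IsSimpleGroup G] (hc : Nat.card G = 175560) :
    ∃ t : G, Cfsg.IsTwoCentralInvolution t ∧
      Nonempty (centralizer ({t} : Set G) ≃* Multiplicative (ZMod 2) × alternatingGroup (Fin 5)) := by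
  have := Fact.mk Nat.prime_two
  have hna : ¬ IsMulCommutative G := H30.not_comm_of_not_prime (by rw [hc]; norm_num)
  have hd := sylowData hna hc
  obtain ⟨t, ht⟩ := exists_prime_orderOf_dvd_card' (G := G) 2 (by rw [hc]; norm_num)
  obtain ⟨K, hle, hnm, hcard, hnorm⟩ := exists_complement hna hd hc ht
  have h : Compl t K := ⟨ht, hle, hnm, hcard, hnorm, dvd_card_centralizer hna hd hc ht⟩
  have h60 := h.card_eq hna hd hc
  have := h.isSimpleGroup hd hc h60
  obtain ⟨e⟩ := S0494.result h60
  obtain ⟨S, hS⟩ := (IsPGroup.of_card (p := 2) (n := 1)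
    (G := zpowers t) (by rw [Nat.card_zpowers, ht, pow_one])).exists_le_sylow
  have hab := sylow_two_comm hna hd hc S
  refine ⟨t, ⟨ht, S, hS (mem_zpowers t), fun x hx =>
    congrArg Subtype.val (hab.is_comm.comm (⟨x, hx⟩ : (S : Subgroup G)) ⟨t, hS (mem_zpowers t)⟩)⟩, ?_⟩
  have htH : t ∈ centralizer ({t} : Set G) := mem_centralizer_singleton_iff.mpr rfl
  let f : zpowers t × K →* centralizer ({t} : Set G) :=
    { toFun := fun x => ⟨x.1 * x.2, mul_mem ((zpowers_le.mpr htH) x.1.2) (hle x.2.2)⟩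
      map_one' := by ext; simp
      map_mul' := fun x y => by
        ext
        obtain ⟨i, hi⟩ := mem_zpowers_iff.mp y.1.2
        have hcx : Commute (x.2 : G) t := mem_centralizer_singleton_iff.mp (hle x.2.2)
        have hcm : Commute (x.2 : G) (y.1 : G) := hi ▸ hcx.zpow_right i
        simp only [Prod.fst_mul, Prod.snd_mul, coe_mul, MulMemClass.mk_mul_mk]
        rw [mul_assoc, mul_assoc, ← mul_assoc (y.1 : G), ← hcm.eq, mul_assoc] }
  have hf : Function.Bijective f := by
    refine (Nat.bijective_iff_surjective_and_card f).mpr ⟨?_, ?_⟩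
    · rintro ⟨g, hg⟩
      rcases h.exists_mul hg with hk | hk
      · exact ⟨(1, ⟨g, hk⟩), Subtype.ext (one_mul g)⟩
      · exact ⟨(⟨t⁻¹, inv_mem (mem_zpowers t)⟩, ⟨t * g, hk⟩), Subtype.ext (inv_mul_cancel_left t g)⟩
    · rw [Nat.card_prod, Nat.card_zpowers, ht, hcard]
  have hz : Nat.card (zpowers t) = 2 := by rw [Nat.card_zpowers, ht]
  exact ⟨(MulEquiv.ofBijective f hf).symm.trans
    (MulEquiv.prodCongr (mulEquivOfPrimeCardEq hz (by simp)) e)⟩

end Cfsg.Agent.H80.J1Unique
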