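import Cfsg.Agent.H80.J1Unique.Local
import Cfsg.Agent.H50.AbelianSylowTwo
import Cfsg.Agent.H50.PResidualBasics
import Cfsg.Agent.H19.RankTwoSylow
import Cfsg.Agent.S0107
import Cfsg.Agent.S0201
import Cfsg.Agent.S0514
import Cfsg.Agent.S4399

/-!
# Elementary abelian Sylow 2-subgroups in simple groups of order 175560
-/

namespace Cfsg.Agent.H80.J1Unique

open Subgroup Cfsg.Agent.H80.J1Order

universe u

variable {G : Type u} [Group G] [Finite G]

theorem not_index_two [IsSimpleGroup G] (hc : Nat.card G = 175560) (H : Subgroup G) :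
    H.index ≠ 2 := by
  intro h
  have hn := normal_of_index_eq_two h
  rcases hn.eq_bot_or_eq_top with rfl | rfl
  · rw [index_bot, hc] at h; omega
  · rw [index_top] at h; omega

theorem card_sylow_two (hc : Nat.card G = 175560) (S : Sylow 2 G) :
    Nat.card (S : Subgroup G) = 8 := by
  have := Fact.mk Nat.prime_two
  have h1 := S.card_mul_index
  obtain ⟨a, ha⟩ := IsPGroup.iff_card.mp S.2
  have h2 : ¬ 2 ∣ (S : Subgroup G).index := S.not_dvd_index
  rw [ha, hc] at h1
  rcases lt_trichotomy a 3 with h | rfl | h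
  · interval_cases a <;> omega
  · rw [ha]; rfl
  · have : 2 ^ 4 ∣ 175560 := h1 ▸ dvd_mul_of_dvd_left (pow_dvd_pow 2 h) _
    norm_num at this

/-- An involution centralizing a subgroup of order three. -/
theorem exists_involution_centralizing_three (hd : SylowData G) (hc : Nat.card G = 175560) :
    ∃ t : G, orderOf t = 2 ∧ 3 ∣ Nat.card (centralizer ({t} : Set G)) := by
  have ho := once_of_mem hc (show 3 ∈ [19, 11, 7, 5, 3] by simp)
  have := Fact.mk Nat.prime_two
  have := Fact.mk Nat.prime_three
  let P : Sylow 3 G := default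
  have h30 : Nat.card (centralizer ((P : Subgroup G) : Set G)) = 30 := by
    rw [ho.card_centralizer P, hd.c3]
  obtain ⟨t, ht⟩ := exists_prime_orderOf_dvd_card'
    (G := centralizer ((P : Subgroup G) : Set G)) 2 (by rw [h30]; norm_num)
  refine ⟨(t : G), by rw [orderOf_coe]; exact ht, ?_⟩
  refine (dvd_of_eq (ho.card_sylow P).symm).trans ?_
  exact card_dvd_of_le fun x hx => mem_centralizer_singleton_iff.mpr
    (mem_centralizer_iff.mp t.2 x hx)

/-- The Sylow 2-subgroups are abelian. -/
theorem sylow_two_comm [IsSimpleGroup G] (hna : ¬ IsMulCommutative G) (hd : SylowData G)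
    (hc : Nat.card G = 175560) (S : Sylow 2 G) : IsMulCommutative (S : Subgroup G) := by
  by_contra hnc
  have := Fact.mk Nat.prime_two
  have h8 := card_sylow_two hc S
  have hZ := H19.commutator_eq_center_of_card_cube (p := 2) (by rw [h8]; norm_num) hnc
  have hcen : Nat.card (center (S : Subgroup G)) = 2 := by
    have h1 := (center (S : Subgroup G)).card_mul_index
    obtain ⟨a, ha⟩ := IsPGroup.iff_card.mp (S.2.to_subgroup (center (S : Subgroup G)))
    have : Nontrivial (S : Subgroup G) := Finite.one_lt_card_iff_nontrivial.mp (by omega)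
    have h2 := S.2.center_nontrivial
    have h3 : 1 < Nat.card (center (S : Subgroup G)) := Finite.one_lt_card
    have h4 : (center (S : Subgroup G)).index ≠ 1 := fun h => hnc
      ⟨⟨fun x y => (mem_center_iff.mp (by rw [index_eq_one.mp h]; exact mem_top y) x)⟩⟩
    have h5 : (center (S : Subgroup G)).index ≠ 2 := fun h => hnc (by
      have : IsCyclic ((S : Subgroup G) ⧸ center (S : Subgroup G)) :=
        isCyclic_of_prime_card (p := 2) (by rw [← index_eq_card, h])
      exact (MonoidHom.isMulCommutative_of_isCyclic_of_ker_le_center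
        (QuotientGroup.mk' (center (S : Subgroup G))) (le_of_eq (QuotientGroup.ker_mk' _))))
    rw [h8, ha] at h1
    rw [ha] at h3 ⊢
    rcases lt_trichotomy a 1 with h | rfl | h
    · interval_cases a; norm_num at h3
    · norm_num
    · exfalso
      have ha3 : a ≤ 3 := by
        by_contra h'
        have : 2 ^ 4 ∣ 8 := h1 ▸ dvd_mul_of_dvd_left (pow_dvd_pow 2 (by omega)) _
        norm_num at this
      interval_cases a <;> omega
  have hab : Nat.card (Abelianization (S : Subgroup G)) = 4 := by
    have h1 := (commutator (S : Subgroup G)).card_mul_index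
    rw [hZ, hcen, h8] at h1
    have h2 : Nat.card (Abelianization (S : Subgroup G)) = (commutator (S : Subgroup G)).index :=
      ((commutator (S : Subgroup G)).index_eq_card).symm
    rw [h2, hZ]; omega
  have hexp : ∀ x : Abelianization (S : Subgroup G), x ^ 2 = 1 := by
    intro x
    by_contra hx
    have h2 : orderOf x = 4 := by
      have hd4 : orderOf x ∣ 2 ^ 2 := (_root_.orderOf_dvd_natCard x).trans (dvd_of_eq hab)
      obtain ⟨i, hi, hio⟩ := (Nat.dvd_prime_pow Nat.prime_two).mp hd4
      rcases Nat.lt_or_ge i 2 with h | h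
      · exfalso
        apply hx
        rw [← orderOf_dvd_iff_pow_eq_one, hio]
        exact pow_dvd_pow 2 (n := 1) (by omega)
      · rw [hio, show i = 2 by omega]; rfl
    have : IsCyclic (Abelianization (S : Subgroup G)) :=
      isCyclic_of_orderOf_eq_card x (by rw [h2, hab])
    have e : Abelianization (S : Subgroup G) ≃* (S : Subgroup G) ⧸ center (S : Subgroup G) :=
      QuotientGroup.quotientMulEquivOfEq hZ
    have : IsCyclic ((S : Subgroup G) ⧸ center (S : Subgroup G)) :=
      isCyclic_of_surjective e.toMonoidHom e.surjective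
    exact hnc (MonoidHom.isMulCommutative_of_isCyclic_of_ker_le_center
      (QuotientGroup.mk' (center (S : Subgroup G))) (le_of_eq (QuotientGroup.ker_mk' _)))
  have hbot : ∀ N : Subgroup G, N.Normal → Odd (Nat.card N) → N = ⊥ := fun N hN ho =>
    hN.eq_bot_or_eq_top.resolve_right fun h => by
      rw [h, card_top, hc] at ho
      exact absurd ho (by decide)
  rcases S4399.result S.2 hab hexp with h4 | ⟨k, ⟨e⟩⟩ | ⟨k, hk, -⟩ | ⟨k, ⟨e⟩⟩
  · omega
  · have h' := Nat.card_congr e.toEquiv
    rw [h8, DihedralGroup.nat_card] at h'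
    have hk : k = 0 := by
      rcases k with _ | k
      · rfl
      · have : 2 ^ 3 ≤ 2 ^ (k + 1 + 2) := Nat.pow_le_pow_right (by norm_num) (by omega)
        omega
    subst hk
    obtain ⟨t, ht, ht3⟩ := exists_involution_centralizing_three hd hc
    obtain ⟨z, hzo⟩ := exists_prime_orderOf_dvd_card' (G := center (S : Subgroup G)) 2 (by rw [hcen])
    have hzG : orderOf ((z : (S : Subgroup G)) : G) = 2 := by rw [orderOf_coe, orderOf_coe, hzo]
    have hres : Cfsg.pResidual 2 G = ⊤ := by
      refine ((H50.pResidual_normal 2 G).eq_bot_or_eq_top).resolve_left fun h => ?_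
      obtain ⟨x, hx⟩ := exists_prime_orderOf_dvd_card' (G := G) 3 (hp := ⟨Nat.prime_three⟩)
        (by rw [hc]; norm_num)
      have hmem : x ∈ Cfsg.pResidual 2 G := Subgroup.subset_closure (by
        show Nat.Coprime (orderOf x) 2
        rw [hx]; norm_num)
      rw [h, Subgroup.mem_bot] at hmem
      rw [hmem, orderOf_one] at hx
      omega
    obtain ⟨g, hg⟩ := S0107.result S 2 le_rfl ⟨e⟩ hres _ _ ht hzG
    have h8C : 8 ∣ Nat.card (centralizer ({((z : (S : Subgroup G)) : G)} : Set G)) := by
      rw [← h8]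
      exact card_dvd_of_le fun x hx => mem_centralizer_singleton_iff.mpr
        (congrArg Subtype.val (mem_center_iff.mp z.2 ⟨x, hx⟩))
    obtain ⟨N, hN, hodd, k, hk⟩ := S0514.result S (2 ^ (0 + 2)) (by norm_num) ⟨e⟩ _ hzG
    have h2p := card_eq_two_pow_of_complement hd hc h8C N hN hodd hk
    have h3 : 3 ∣ 2 ^ k := by
      rw [← h2p, ← hg]
      refine ht3.trans (dvd_of_eq ?_)
      refine Nat.card_congr ((MulAut.conj g).toEquiv.subtypeEquiv fun x => ?_)
      simp only [mem_centralizer_singleton_iff, MulEquiv.toEquiv_eq_coe, EquivLike.coe_coe,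
        MulAut.conj_apply]
      constructor
      · intro h
        calc g * x * g⁻¹ * (g * t * g⁻¹) = g * (x * t) * g⁻¹ := by group
          _ = g * (t * x) * g⁻¹ := by rw [h]
          _ = g * t * g⁻¹ * (g * x * g⁻¹) := by group
      · intro h
        calc x * t = g⁻¹ * (g * x * g⁻¹ * (g * t * g⁻¹)) * g := by group
          _ = g⁻¹ * (g * t * g⁻¹ * (g * x * g⁻¹)) * g := by rw [h]
          _ = t * x := by group
    exact absurd (Nat.prime_three.dvd_of_dvd_pow h3) (by norm_num)
  · rw [hk] at h8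
    have : 2 ^ 4 ≤ 2 ^ (k + 4) := Nat.pow_le_pow_right (by norm_num) (by omega)
    omega
  · have h' := Nat.card_congr e.toEquiv
    rw [h8, QuaternionGroup.card.symm.trans Nat.card_eq_fintype_card.symm |>.symm] at h'
    have h2 := S0201.result S k e hbot
    have hZG : center G = ⊥ := ((inferInstance : (center G).Normal).eq_bot_or_eq_top).resolve_right
      fun h => hna ⟨⟨fun a b => (mem_center_iff.mp (by rw [h]; exact mem_top b) a)⟩⟩
    rw [hZG, card_bot] at h2
    omega

/-- The Sylow 2-subgroups have exponent two. -/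
theorem sq_eq_one [IsSimpleGroup G] (hna : ¬ IsMulCommutative G) (hd : SylowData G)
    (hc : Nat.card G = 175560) (S : Sylow 2 G) {y : G} (hy : y ∈ S) : y ^ 2 = 1 := by
  have := Fact.mk Nat.prime_two
  have hab := sylow_two_comm hna hd hc S
  have h8 := card_sylow_two hc S
  by_contra hne
  obtain ⟨i, hi, hio⟩ := (Nat.dvd_prime_pow Nat.prime_two).mp
    (show orderOf (⟨y, hy⟩ : (S : Subgroup G)) ∣ 2 ^ 3 from
      (_root_.orderOf_dvd_natCard _).trans (dvd_of_eq (h8.trans (by norm_num))))
  -- an element of maximal order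
  obtain ⟨x, hx⟩ := Finite.exists_max (fun x : (S : Subgroup G) => orderOf x)
  have hxo : orderOf x = 4 ∨ orderOf x = 8 := by
    obtain ⟨j, hj, hjo⟩ := (Nat.dvd_prime_pow Nat.prime_two).mp
      (show orderOf x ∣ 2 ^ 3 from (_root_.orderOf_dvd_natCard _).trans (dvd_of_eq (h8.trans (by norm_num))))
    have h1 : ¬ orderOf (⟨y, hy⟩ : (S : Subgroup G)) ≤ 2 := fun h => by
      apply hne
      have hdv : orderOf (⟨y, hy⟩ : (S : Subgroup G)) ∣ 2 := by
        rw [hio]
        rcases i with _ | _ | i
        · norm_num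
        · norm_num
        · exfalso
          rw [hio] at h
          have : 2 ^ 2 ≤ 2 ^ (i + 1 + 1) := Nat.pow_le_pow_right (by norm_num) (by omega)
          omega
      exact congrArg Subtype.val (orderOf_dvd_iff_pow_eq_one.mp hdv)
    have := hx ⟨y, hy⟩
    rw [hjo] at this ⊢
    interval_cases j <;> omega
  obtain ⟨m, hm, hz1, hfix⟩ : ∃ m : ℕ, 0 < m ∧ x ^ m ≠ 1 ∧ ∀ w : (S : Subgroup G),
      w ^ m = 1 ∨ w ^ m = x ^ m := by
    rcases hxo with h | h
    · refine ⟨2, by norm_num, fun h' => ?_, fun w => ?_⟩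
      · have := Nat.le_of_dvd (by norm_num) (orderOf_dvd_iff_pow_eq_one.mpr h')
        omega
      have hidx : (zpowers x).index = 2 := by
        have := (zpowers x).card_mul_index
        rw [Nat.card_zpowers, h, h8] at this
        omega
      obtain ⟨k, hk⟩ : w ^ 2 ∈ zpowers x := Subgroup.sq_mem_of_index_two hidx w
      have hk' : x ^ k = w ^ 2 := hk
      have hw4 : (w ^ 2) ^ 2 = 1 := by
        rw [← pow_mul, ← orderOf_dvd_iff_pow_eq_one]
        obtain ⟨j, hj, hjo⟩ := (Nat.dvd_prime_pow Nat.prime_two).mp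
          (show orderOf w ∣ 2 ^ 3 from (_root_.orderOf_dvd_natCard _).trans (dvd_of_eq (h8.trans (by norm_num))))
        have := hx w
        rw [hjo, h] at this
        rw [hjo]
        interval_cases j <;> first | omega | norm_num
      rw [← hk', ← zpow_natCast, ← zpow_mul] at hw4
      have hdv : (4 : ℤ) ∣ k * 2 := by
        have := orderOf_dvd_iff_zpow_eq_one.mpr hw4
        rwa [h] at this
      obtain ⟨l, hl⟩ : (2 : ℤ) ∣ k := by omega
      rw [← hk', hl, zpow_mul, zpow_ofNat]
      rcases Int.even_or_odd l with ⟨a, rfl⟩ | ⟨a, rfl⟩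
      · left
        rw [← two_mul, zpow_mul, zpow_ofNat, ← pow_mul]
        rw [show x ^ (2 * 2) = 1 from orderOf_dvd_iff_pow_eq_one.mp (dvd_of_eq (h.trans (by norm_num))), one_zpow]
      · right
        rw [zpow_add, zpow_mul, zpow_ofNat, ← pow_mul,
          show x ^ (2 * 2) = 1 from orderOf_dvd_iff_pow_eq_one.mp (dvd_of_eq (h.trans (by norm_num))), one_zpow, one_mul, zpow_one]
    · refine ⟨4, by norm_num, fun h' => ?_, fun w => ?_⟩
      · have := Nat.le_of_dvd (by norm_num) (orderOf_dvd_iff_pow_eq_one.mpr h')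
        omega
      have htop : zpowers x = ⊤ := eq_top_of_card_eq _ (by rw [Nat.card_zpowers, h, h8])
      obtain ⟨k, hk⟩ := mem_zpowers_iff.mp (htop ▸ mem_top w : w ∈ zpowers x)
      have h81 : (x ^ 4) ^ 2 = 1 := by rw [← pow_mul]; exact orderOf_dvd_iff_pow_eq_one.mp (dvd_of_eq (h.trans (by norm_num)))
      have e : w ^ 4 = (x ^ 4) ^ k := by
        rw [← hk, ← zpow_natCast, ← zpow_mul, mul_comm, zpow_mul, zpow_natCast]
      rw [e]
      rcases Int.even_or_odd k with ⟨a, rfl⟩ | ⟨a, rfl⟩
      · left; rw [← two_mul, zpow_mul, zpow_ofNat, h81, one_zpow]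
      · right; rw [zpow_add, zpow_mul, zpow_ofNat, h81, one_zpow, one_mul, zpow_one]
  refine hz1 (Subtype.ext (H50.abelian_sylow_fixed_trivial (not_index_two hc) S hab (x ^ m).2
    fun n hn => ?_))
  have hmem : n * (x : G) * n⁻¹ ∈ (S : Subgroup G) :=
    (Subgroup.mem_normalizer_iff.mp hn _).mp x.2
  have e : n * ((x ^ m : (S : Subgroup G)) : G) * n⁻¹ = ((⟨_, hmem⟩ : (S : Subgroup G)) ^ m : _) := by
    simp [conj_pow]
  rcases hfix ⟨_, hmem⟩ with h | h
  · rw [h, OneMemClass.coe_one, mul_inv_eq_one] at e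
    exact absurd (Subtype.ext (mul_eq_left.mp e)) hz1
  · rw [h] at e
    exact (mul_inv_eq_iff_eq_mul.mp e)

/-- Elements of 2-power order square to one. -/
theorem sq_eq_one_of_two_pow [IsSimpleGroup G] (hna : ¬ IsMulCommutative G) (hd : SylowData G)
    (hc : Nat.card G = 175560) {H : Subgroup G} (hH : IsPGroup 2 H) {y : G} (hy : y ∈ H) :
    y ^ 2 = 1 := by
  obtain ⟨S, hS⟩ := hH.exists_le_sylow
  exact sq_eq_one hna hd hc S (hS hy)

/-- All involutions are conjugate. -/
theorem involutions_conj [IsSimpleGroup G] (hna : ¬ IsMulCommutative G) (hd : SylowData G)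
    (hc : Nat.card G = 175560) {a b : G} (ha : orderOf a = 2) (hb : orderOf b = 2) :
    IsConj a b := by
  classical
  have := Fact.mk Nat.prime_two
  let S : Sylow 2 G := default
  have inS : ∀ v : G, orderOf v = 2 → ∃ g : G, g * v * g⁻¹ ∈ S := by
    intro v hv
    obtain ⟨T, hT⟩ := (IsPGroup.of_card (p := 2) (n := 1)
      (G := zpowers v) (by rw [Nat.card_zpowers, hv, pow_one])).exists_le_sylow
    obtain ⟨g, hg⟩ := MulAction.exists_smul_eq G T S
    refine ⟨g, ?_⟩
    rw [← hg, ← SetLike.mem_coe, Sylow.coe_smul]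
    exact ⟨v, hT (mem_zpowers v), rfl⟩
  obtain ⟨g, hg⟩ := inS a ha
  obtain ⟨g', hg'⟩ := inS b hb
  suffices h : ∀ u ∈ (S : Subgroup G), ∀ v ∈ (S : Subgroup G), u ≠ 1 → v ≠ 1 → IsConj u v by
    have h1 := h _ hg _ hg' (by simp [show a ≠ 1 by rintro rfl; simp at ha])
      (by simp [show b ≠ 1 by rintro rfl; simp at hb])
    exact (isConj_iff.mpr ⟨g, rfl⟩).trans (h1.trans (isConj_iff.mpr ⟨g', rfl⟩).symm)
  intro u hu v hv hu1 hv1
  by_contra hcon
  let N := normalizer ((S : Subgroup G) : Set G)
  let _ : MulAction N G := MulAction.compHom G ((MulAut.conj : G →* MulAut G).comp N.subtype)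
  have hsmul : ∀ (n : N) (x : G), n • x = (n : G) * x * (n : G)⁻¹ := fun _ _ => rfl
  have hab := sylow_two_comm hna hd hc S
  let _ : Fintype G := Fintype.ofFinite G
  have horb : ∀ x ∈ (S : Subgroup G), x ≠ 1 →
      Odd (MulAction.orbit N x).ncard ∧ 2 < (MulAction.orbit N x).ncard ∧
      MulAction.orbit N x ⊆ ((S : Subgroup G) : Set G) \ {1} := by
    intro x hx hx1
    have hodd : Odd (MulAction.orbit N x).ncard := by
      rw [← MulAction.index_stabilizer]
      have hle : (S : Subgroup G).subgroupOf N ≤ MulAction.stabilizer N x := fun w hw => by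
        show (w : G) * x * (w : G)⁻¹ = x
        have hcomm : (w : G) * x = x * w :=
          congrArg Subtype.val (hab.is_comm.comm (⟨(w : G), hw⟩ : (S : Subgroup G)) ⟨x, hx⟩)
        rw [hcomm, mul_inv_cancel_right]
      refine Odd.of_dvd_nat ?_ ((index_dvd_of_le hle).trans
        (relIndex_dvd_index_of_le (le_normalizer (H := (S : Subgroup G)))))
      exact Nat.not_even_iff_odd.mp fun h => S.not_dvd_index (even_iff_two_dvd.mp h)
    refine ⟨hodd, ?_, ?_⟩
    · by_contra h
      have h1 : (MulAction.orbit N x).ncard = 1 := by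
        obtain ⟨m, hm⟩ := hodd; omega
      obtain ⟨y, hy⟩ := Set.ncard_eq_one.mp h1
      have hxy : x ∈ MulAction.orbit N x := MulAction.mem_orbit_self x
      rw [hy, Set.mem_singleton_iff] at hxy
      refine hx1 (H50.abelian_sylow_fixed_trivial (not_index_two hc) S hab hx fun n hn => ?_)
      have h2 : (⟨n, hn⟩ : N) • x ∈ MulAction.orbit N x := MulAction.mem_orbit x _
      rw [hy, ← hxy, Set.mem_singleton_iff, hsmul] at h2
      exact mul_inv_eq_iff_eq_mul.mp h2
    · rintro _ ⟨n, rfl⟩
      refine ⟨(mem_normalizer_iff.mp n.2 x).mp hx, ?_⟩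
      simp only [hsmul, Set.mem_singleton_iff, conj_eq_one_iff]
      exact hx1
  obtain ⟨hou, hu2, hus⟩ := horb u hu hu1
  obtain ⟨hov, hv2, hvs⟩ := horb v hv hv1
  have hdisj : Disjoint (MulAction.orbit N u) (MulAction.orbit N v) := by
    rw [Set.disjoint_left]
    rintro _ ⟨n, rfl⟩ ⟨m, hm⟩
    simp only [hsmul] at hm
    exact hcon ((isConj_iff.mpr ⟨(n : G), rfl⟩).trans (isConj_iff.mpr ⟨(m : G), hm⟩).symm)
  have h7 : (((S : Subgroup G) : Set G) \ {1}).ncard = 7 := by
    rw [Set.ncard_sdiff_singleton_of_mem (one_mem (S : Subgroup G)), ← Nat.card_coe_set_eq]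
    have := card_sylow_two hc S
    simp only [SetLike.coe_sort_coe]
    omega
  have hle : (MulAction.orbit N u).ncard + (MulAction.orbit N v).ncard ≤ 7 := by
    rw [← h7, ← Set.ncard_union_eq hdisj]
    exact Set.ncard_le_ncard (Set.union_subset hus hvs)
  rcases Nat.lt_or_ge ((MulAction.orbit N u).ncard + (MulAction.orbit N v).ncard) 7 with h | h
  · obtain ⟨w, hw, hwn⟩ := Set.exists_mem_notMem_of_ncard_lt_ncard
      (s := MulAction.orbit N u ∪ MulAction.orbit N v) (t := ((S : Subgroup G) : Set G) \ {1})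
      (by rw [Set.ncard_union_eq hdisj, h7]; exact h)
    obtain ⟨-, hw2, hws⟩ := horb w hw.1 (by simpa using hw.2)
    have hd' : Disjoint (MulAction.orbit N u ∪ MulAction.orbit N v) (MulAction.orbit N w) := by
      rw [Set.disjoint_left]
      rintro x (hx | hx) hx'
      · refine hwn (Or.inl ?_)
        rw [← MulAction.orbit_eq_iff.mpr hx, MulAction.orbit_eq_iff.mpr hx']
        exact MulAction.mem_orbit_self w
      · refine hwn (Or.inr ?_)
        rw [← MulAction.orbit_eq_iff.mpr hx, MulAction.orbit_eq_iff.mpr hx']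
        exact MulAction.mem_orbit_self w
    have h3 := Set.ncard_le_ncard (Set.union_subset (Set.union_subset hus hvs) hws)
    rw [Set.ncard_union_eq hd', Set.ncard_union_eq hdisj, h7] at h3
    omega
  · obtain ⟨a, ha'⟩ := hou
    obtain ⟨b, hb'⟩ := hov
    omega

end Cfsg.Agent.H80.J1Unique
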